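import Cfsg.Agent.H601.OddDeg.Defs

/-!
# TEAM FOUR (S4947): groups with exactly four irreducible characters of odd degree.  Definitions

* `K0 G` : the number of irreducible characters of odd degree;
* `K0t G τ` : the number of those which are fixed by the automorphism `τ`;
* `Syl4 G` : `|P : P'| = 4` for the Sylow `2`-subgroups;
* the rows for a simple group `S`: `RowA S`, `RowB S`, and their strong forms `Row5 S`, `Row3 S`.
-/

set_option autoImplicit false

namespace Cfsg.Agent.H307.FourOdd

open Cfsg Subgroup

universe u v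

/-- The number of irreducible characters of odd degree. -/
noncomputable def K0 (G : Type u) [Group G] : ℕ :=
  Nat.card {χ : IrrCharacter G // ¬ 2 ∣ charDegree (χ : G → ℂ)}

/-- The number of irreducible characters of odd degree fixed by the automorphism `τ`. -/
noncomputable def K0t (G : Type u) [Group G] (τ : G ≃* G) : ℕ :=
  Nat.card {χ : IrrCharacter G // ¬ 2 ∣ charDegree (χ : G → ℂ) ∧ ∀ x, (χ : G → ℂ) (τ x) = (χ : G → ℂ) x}

/-- The commutator subgroup of a Sylow `2`-subgroup has index four in it. -/
def Syl4 (G : Type u) [Group G] : Prop := ∀ P : Sylow 2 G, (commutator ↥P).index = 4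

/-- At least five irreducible characters of odd degree. -/
def Row5 (S : Type u) [Group S] : Prop := 5 ≤ K0 S

/-- **Row A** -/
def RowA (S : Type u) [Group S] : Prop := 5 ≤ K0 S ∨ Syl4 S

/-- At least three irreducible characters of odd degree fixed by `τ`, for every automorphism `τ` whose square is
inner. -/
def Row3 (S : Type u) [Group S] : Prop :=
  ∀ τ : S ≃* S, (∃ a : S, ∀ x, τ (τ x) = a * x * a⁻¹) → 3 ≤ K0t S τ

/-- **Row B**: for a group `G` with a normal subgroup `N ≅ S` of index two and with trivial centralizer, at least three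
irreducible characters of odd degree of `N` are `G`-invariant, or the Sylow `2`-subgroups `P` of `G` have
`|P : P'| = 4`. -/
def RowB (S : Type u) [Group S] : Prop :=
  ∀ (G : Type u) [Group G] [Finite G] (N : Subgroup G) [N.Normal], N.index = 2 → centralizer (N : Set G) = ⊥ →
    Nonempty (↥N ≃* S) →
    3 ≤ Nat.card {χ : IrrCharacter ↥N // ¬ 2 ∣ charDegree (χ : ↥N → ℂ) ∧
      ∀ g : G, ∀ x : ↥N, (χ : ↥N → ℂ) (MulAut.conjNormal g x) = (χ : ↥N → ℂ) x} ∨ Syl4 G

end Cfsg.Agent.H307.FourOdd
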